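import Mathlib
import Cfsg.Agent.H955.QSpace

/-!
# Singular vectors are not covered by two proper subspaces

`X` a subspace of a quadratic space over a finite field with `dim X ≥ dim (rad X) + 5`.
-/

set_option autoImplicit false

namespace Cfsg.Agent.H958.Ore

open Module QuadraticMap Cfsg.Agent.LieClassical.OrthCore Cfsg.Agent.LieClassical.OrthTrans
  Cfsg.Agent.H955

variable {F V : Type*} [Field F] [AddCommGroup V] [Module F V] {Q : QuadraticForm F V}

/-- a complement of `A` in `X` -/
theorem exists_compl_in [FiniteDimensional F V] (X A : Submodule F V) :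
    ∃ Y ≤ X, Disjoint Y A ∧ finrank F X = finrank F (X ⊓ A : Submodule F V) + finrank F Y := by
  obtain ⟨C, hC⟩ := Submodule.exists_isCompl ((X ⊓ A).comap X.subtype)
  refine ⟨C.map X.subtype, Submodule.map_subtype_le X C, ?_, ?_⟩
  · rw [Submodule.disjoint_def]
    rintro _ ⟨y, hy, rfl⟩ hA
    have h1 : y ∈ (X ⊓ A).comap X.subtype := ⟨y.2, hA⟩
    have := Submodule.disjoint_def.1 hC.disjoint y h1 hy
    rw [this]; rfl
  · have h1 := Submodule.finrank_add_eq_of_isCompl hC
    have h2 : finrank F ((X ⊓ A).comap X.subtype) = finrank F (X ⊓ A : Submodule F V) :=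
      (Submodule.comapSubtypeEquivOfLe (inf_le_left : X ⊓ A ≤ X)).finrank_eq
    have h3 : finrank F (C.map X.subtype) = finrank F C :=
      (Submodule.equivSubtypeMap X C).symm.finrank_eq
    rw [h3, ← h2, h1]

/-- a singular vector of `X` outside `A` -/
theorem exists_sing_not_mem [Finite F] [FiniteDimensional F V] {X A : Submodule F V}
    (h : finrank F (X ⊓ A : Submodule F V) + 3 ≤ finrank F X) : ∃ x ∈ X, Q x = 0 ∧ x ∉ A := by
  obtain ⟨Y, hYX, hYA, hY⟩ := exists_compl_in X A
  obtain ⟨w, hw, hw0, hQw⟩ :=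
    Cfsg.Agent.LieClassical.OrthFinite.exists_sing_mem (Q := Q) Y (by omega)
  exact ⟨w, hYX hw, hQw, fun hA => hw0 (Submodule.disjoint_def.1 hYA w hw hA)⟩

/-- A singular vector of `X` not orthogonal to `X` lies in a hyperbolic pair of `X`. -/
theorem exists_hyp_in {X : Submodule F V} {e z : V} (he : e ∈ X) (hz : z ∈ X) (hQ : Q e = 0)
    (h : polar Q e z ≠ 0) : ∃ f ∈ X, Hyp Q e f := by
  obtain ⟨y, hy, h1⟩ : ∃ y ∈ X, polar Q e y = 1 :=
    ⟨(polar Q e z)⁻¹ • z, X.smul_mem _ hz, by rw [polar_smul_right, smul_eq_mul, inv_mul_cancel₀ h]⟩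
  refine ⟨y - Q y • e, X.sub_mem hy (X.smul_mem _ he), ⟨hQ, ?_, ?_⟩⟩
  · rw [sub_eq_add_neg, Q_add, QuadraticMap.map_neg, QuadraticMap.map_smul, hQ,
      polar_neg_right, polar_smul_right, polar_comm, h1]
    simp
  · rw [polar_sub_right, polar_smul_right, h1, polar_self_of_sing hQ]
    simp

theorem exists_hyp_of_rank [Finite F] [FiniteDimensional F V] {X : Submodule F V}
    (h : finrank F (X ⊓ perp Q X : Submodule F V) + 3 ≤ finrank F X) :
    ∃ e ∈ X, ∃ f ∈ X, Hyp Q e f := by
  obtain ⟨e, he, hQe, hne⟩ := exists_sing_not_mem (Q := Q) h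
  rw [mem_perp'] at hne
  push Not at hne
  obtain ⟨z, hz, hez⟩ := hne
  obtain ⟨f, hf, hh⟩ := exists_hyp_in he hz hQe hez
  exact ⟨e, he, f, hf, hh⟩

/-- the span of singular vectors -/
theorem le_of_sing {X A : Submodule F V} {e f : V} (he : e ∈ X) (hf : f ∈ X) (h : Hyp Q e f)
    (hA : ∀ x ∈ X, Q x = 0 → x ∈ A) : X ≤ A := by
  have heA := hA e he h.left
  have hfA := hA f hf h.right
  intro x hx
  -- `z = x - (x,f) e - (x,e) f` is orthogonal to `e`, `f`
  set z := x - polar Q f x • e - polar Q e x • f with hz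
  have hzX : z ∈ X := X.sub_mem (X.sub_mem hx (X.smul_mem _ he)) (X.smul_mem _ hf)
  have hze : polar Q e z = 0 := by
    rw [hz, polar_sub_right, polar_sub_right, polar_smul_right, polar_smul_right,
      h.polar_left, h.pair]
    simp
  have hzf : polar Q f z = 0 := by
    rw [hz, polar_sub_right, polar_sub_right, polar_smul_right, polar_smul_right,
      h.polar_right, h.pair']
    simp
  have h1 : z + (e - Q z • f) ∈ A := by
    apply hA _ (X.add_mem hzX (X.sub_mem he (X.smul_mem _ hf)))
    rw [Q_add, sub_eq_add_neg, Q_add, QuadraticMap.map_neg, QuadraticMap.map_smul, h.left, h.right,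
      polar_neg_right, polar_smul_right, h.pair, polar_add_right, polar_neg_right, polar_smul_right,
      polar_comm Q z e, polar_comm Q z f, hze, hzf]
    simp
  have h2 : z ∈ A := by
    have := A.sub_mem h1 (A.sub_mem heA (A.smul_mem (Q z) hfA))
    simpa using this
  have h3 : x = z + polar Q f x • e + polar Q e x • f := by rw [hz]; abel
  rw [h3]
  exact A.add_mem (A.add_mem h2 (A.smul_mem _ heA)) (A.smul_mem _ hfA)

/-- the part of `X` orthogonal to a hyperbolic pair -/
theorem rank_perp_hyp [FiniteDimensional F V] {X : Submodule F V} {u v : V} (hu : u ∈ X) (hv : v ∈ X)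
    (h : Hyp Q u v) {k : ℕ}
    (hX : finrank F (X ⊓ perp Q X : Submodule F V) + (k + 2) ≤ finrank F X) :
    finrank F ((X ⊓ perp Q (Submodule.span F {u, v})) ⊓
      perp Q (X ⊓ perp Q (Submodule.span F {u, v})) : Submodule F V) + k ≤
      finrank F (X ⊓ perp Q (Submodule.span F {u, v}) : Submodule F V) := by
  set Z : Submodule F V := X ⊓ perp Q (Submodule.span F {u, v}) with hZ
  have hmem : ∀ x, x ∈ Z ↔ x ∈ X ∧ polar Q u x = 0 ∧ polar Q v x = 0 := by
    intro x
    rw [hZ, Submodule.mem_inf, mem_perp]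
    refine and_congr_right fun _ => ⟨fun h => ⟨h u (Submodule.subset_span (by simp)),
      h v (Submodule.subset_span (by simp))⟩, fun h w hw => ?_⟩
    refine Submodule.span_induction (p := fun w _ => polar Q w x = 0) ?_ ?_ ?_ ?_ hw
    · intro y hy
      rcases hy with rfl | hy
      · exact h.1
      · rw [Set.mem_singleton_iff.1 hy]; exact h.2
    · exact polar_zero_left Q x
    · intro a b _ _ ha hb
      rw [polar_add_left, ha, hb, add_zero]
    · intro c a _ ha
      rw [polar_smul_left, ha, smul_zero]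
  have hdec : ∀ x ∈ X, x - polar Q v x • u - polar Q u x • v ∈ Z := by
    intro x hx
    rw [hmem]
    refine ⟨X.sub_mem (X.sub_mem hx (X.smul_mem _ hu)) (X.smul_mem _ hv), ?_, ?_⟩
    · rw [polar_sub_right, polar_sub_right, polar_smul_right, polar_smul_right, h.polar_left, h.pair]
      simp
    · rw [polar_sub_right, polar_sub_right, polar_smul_right, polar_smul_right, h.polar_right,
        h.pair']
      simp
  have h1 : X ≤ Submodule.span F {u, v} ⊔ Z := by
    intro x hx
    have e : x = (polar Q v x • u + polar Q u x • v) +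
        (x - polar Q v x • u - polar Q u x • v) := by abel
    rw [e]
    refine Submodule.add_mem_sup (Submodule.add_mem _ (Submodule.smul_mem _ _ (Submodule.subset_span
      (by simp))) (Submodule.smul_mem _ _ (Submodule.subset_span (by simp)))) (hdec x hx)
  have h2 : finrank F X ≤ 2 + finrank F Z := by
    refine (Submodule.finrank_mono h1).trans ((Submodule.finrank_add_le_finrank_add_finrank _ _).trans ?_)
    have : finrank F (Submodule.span F ({u, v} : Set V)) ≤ 2 := by
      classical
      have := finrank_span_finset_le_card (R := F) ({u, v} : Finset V)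
      rw [Finset.coe_insert, Finset.coe_singleton] at this
      exact this.trans (Finset.card_le_two)
    omega
  have h3 : Z ⊓ perp Q Z ≤ X ⊓ perp Q X := by
    rintro z ⟨hz, hz'⟩
    refine ⟨((hmem z).1 hz).1, ?_⟩
    intro x hx
    have e : x = (polar Q v x • u + polar Q u x • v) +
        (x - polar Q v x • u - polar Q u x • v) := by abel
    rw [e, polar_add_left, hz' _ (hdec x hx), polar_add_left, polar_smul_left, polar_smul_left,
      ((hmem z).1 hz).2.1, ((hmem z).1 hz).2.2]
    simp
  have h4 := Submodule.finrank_mono h3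
  omega

/-- **Covering lemma.** Singular vectors are not covered by two proper subspaces. -/
theorem exists_sing_avoid [Finite F] [FiniteDimensional F V] {X A B : Submodule F V}
    (hX : finrank F (X ⊓ perp Q X : Submodule F V) + 5 ≤ finrank F X) (hA : ¬ X ≤ A) (hB : ¬ X ≤ B) :
    ∃ w ∈ X, Q w = 0 ∧ w ∉ A ∧ w ∉ B := by
  by_contra hcon
  push Not at hcon
  obtain ⟨e, he, f, hf, hef⟩ := exists_hyp_of_rank (Q := Q) (X := X) (by omega)
  obtain ⟨u, huX, hQu, huA⟩ : ∃ u ∈ X, Q u = 0 ∧ u ∉ A := by
    by_contra h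
    push Not at h
    exact hA (le_of_sing he hf hef h)
  obtain ⟨v, hvX, hQv, hvB⟩ : ∃ v ∈ X, Q v = 0 ∧ v ∉ B := by
    by_contra h
    push Not at h
    exact hB (le_of_sing he hf hef h)
  have huB := hcon u huX hQu huA
  have hvA : v ∈ A := by
    by_contra h
    exact hvB (hcon v hvX hQv h)
  have huv : polar Q u v ≠ 0 := by
    intro h
    have h1 : Q (u + v) = 0 := by rw [Q_add, hQu, hQv, h]; simp
    have h2 : u + v ∉ A := fun h => huA (by simpa using A.sub_mem h hvA)
    have h3 := hcon _ (X.add_mem huX hvX) h1 h2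
    exact hvB (by simpa using B.sub_mem h3 huB)
  -- rescale `v`
  set c := polar Q u v with hc
  set v' := c⁻¹ • v with hv'
  have hh : Hyp Q u v' := ⟨hQu, by rw [hv', QuadraticMap.map_smul, hQv, smul_zero],
    by rw [hv', polar_smul_right, ← hc, smul_eq_mul, inv_mul_cancel₀ huv]⟩
  have hv'X : v' ∈ X := X.smul_mem _ hvX
  have hv'A : v' ∈ A := A.smul_mem _ hvA
  have hv'B : v' ∉ B := fun h => hvB (by
    have := B.smul_mem c h
    rwa [hv', smul_smul, mul_inv_cancel₀ huv, one_smul] at this)
  set Z : Submodule F V := X ⊓ perp Q (Submodule.span F {u, v'}) with hZ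
  have hrk := rank_perp_hyp (k := 3) huX hv'X hh (by omega)
  rw [← hZ] at hrk
  have hZu : ∀ z ∈ Z, polar Q u z = 0 := fun z hz => hz.2 u (Submodule.subset_span (by simp))
  have hZv : ∀ z ∈ Z, polar Q v' z = 0 := fun z hz => hz.2 v' (Submodule.subset_span (by simp))
  obtain ⟨e', he', f', hf', hef'⟩ := exists_hyp_of_rank (Q := Q) (X := Z) hrk
  have hZA : Z ≤ A := by
    apply le_of_sing he' hf' hef'
    intro z hz hQz
    by_contra hzA
    have h1 : Q (v' + z) = 0 := by rw [Q_add, hh.right, hQz, hZv z hz]; simp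
    have h2 : v' + z ∉ A := fun h => hzA (by simpa using A.sub_mem h hv'A)
    have h3 := hcon _ (X.add_mem hv'X hz.1) h1 h2
    have h4 := hcon z hz.1 hQz hzA
    exact hv'B (by simpa using B.sub_mem h3 h4)
  have hZB : Z ≤ B := by
    apply le_of_sing he' hf' hef'
    intro z hz hQz
    by_contra hzB
    have h1 : Q (u + z) = 0 := by rw [Q_add, hQu, hQz, hZu z hz]; simp
    have h2 : u + z ∉ B := fun h => hzB (by simpa using B.sub_mem h huB)
    have h3 : u + z ∈ A := by
      by_contra h
      exact h2 (hcon _ (X.add_mem huX hz.1) h1 h)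
    exact huA (by simpa using A.sub_mem h3 (hZA hz))
  -- a nonsingular `z`
  have hsum : Q (e' + f') = 1 := by rw [Q_add, hef'.left, hef'.right, hef'.pair]; simp
  have hzZ : e' + f' ∈ Z := Z.add_mem he' hf'
  have h1 : Q (u + -v' + (e' + f')) = 0 := by
    rw [Q_add, Q_add, QuadraticMap.map_neg, hQu, hh.right, hsum, polar_neg_right, hh.pair,
      polar_add_left, polar_neg_left, hZu _ hzZ, hZv _ hzZ]
    simp
  have h2 : u + -v' + (e' + f') ∉ A := by
    intro h
    apply huA
    have := A.sub_mem (A.sub_mem h (hZA hzZ)) (A.neg_mem hv'A)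
    simpa using this
  have h3 := hcon _ (X.add_mem (X.add_mem huX (X.neg_mem hv'X)) hzZ.1) h1 h2
  apply hv'B
  have := B.sub_mem (B.sub_mem h3 (hZB hzZ)) huB
  rw [← B.neg_mem_iff]
  simpa using this

end Cfsg.Agent.H958.Ore
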