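import Mathlib
import Cfsg.Agent.H958.Ore.Cover

/-!
# Totally singular subspaces meeting given subspaces trivially
-/

set_option autoImplicit false

namespace Cfsg.Agent.H958.Ore

open Module QuadraticMap Cfsg.Agent.LieClassical.OrthCore Cfsg.Agent.LieClassical.OrthTrans
  Cfsg.Agent.H955

variable {F V : Type*} [Field F] [AddCommGroup V] [Module F V] {Q : QuadraticForm F V}

/-- totally singular -/
def TS (Q : QuadraticForm F V) (W : Submodule F V) : Prop := ∀ x ∈ W, Q x = 0

theorem TS.polar {W : Submodule F V} (h : TS Q W) {x y : V} (hx : x ∈ W) (hy : y ∈ W) :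
    polar Q x y = 0 := by
  have h1 := h _ (W.add_mem hx hy)
  rw [Q_add, h x hx, h y hy] at h1
  simpa using h1

theorem TS.le_perp {W : Submodule F V} (h : TS Q W) : W ≤ perp Q W :=
  fun _ hx _ hy => h.polar hy hx

theorem TS.bot : TS Q (⊥ : Submodule F V) := by
  intro x hx
  rw [(Submodule.mem_bot F).1 hx, QuadraticMap.map_zero]

theorem TS.sup_span {W : Submodule F V} (h : TS Q W) {w : V} (hw : w ∈ perp Q W) (hQ : Q w = 0) :
    TS Q (W ⊔ Submodule.span F {w}) := by
  intro x hx
  obtain ⟨y, hy, z, hz, rfl⟩ := Submodule.mem_sup.1 hx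
  obtain ⟨a, rfl⟩ := Submodule.mem_span_singleton.1 hz
  rw [Q_add, h y hy, QuadraticMap.map_smul, hQ, polar_smul_right, hw y hy]
  simp

theorem finrank_sup_span [FiniteDimensional F V] {W : Submodule F V} {w : V} (hw : w ∉ W) :
    finrank F (W ⊔ Submodule.span F {w} : Submodule F V) = finrank F W + 1 := by
  have hw0 : w ≠ 0 := fun h => hw (h ▸ W.zero_mem)
  have h1 := Submodule.finrank_sup_add_finrank_inf_eq W (Submodule.span F {w})
  have h2 : W ⊓ Submodule.span F {w} = ⊥ := by
    rw [Submodule.eq_bot_iff]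
    rintro x ⟨hx, hx'⟩
    obtain ⟨a, rfl⟩ := Submodule.mem_span_singleton.1 hx'
    by_cases ha : a = 0
    · rw [ha, zero_smul]
    · exact absurd ((W.smul_mem_iff ha).1 hx) hw
  rw [h2, finrank_bot, finrank_span_singleton hw0] at h1
  omega

theorem mem_sup_span {W : Submodule F V} {w x : V} :
    x ∈ W ⊔ Submodule.span F {w} ↔ ∃ y ∈ W, ∃ a : F, x = y + a • w := by
  rw [Submodule.mem_sup]
  constructor
  · rintro ⟨y, hy, z, hz, rfl⟩
    obtain ⟨a, rfl⟩ := Submodule.mem_span_singleton.1 hz
    exact ⟨y, hy, a, rfl⟩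
  · rintro ⟨y, hy, a, rfl⟩
    exact ⟨y, hy, a • w, Submodule.smul_mem _ _ (Submodule.mem_span_singleton_self w), rfl⟩

theorem rank_perp_TS [FiniteDimensional F V] (hQ : Nondeg Q) {W : Submodule F V} (h : TS Q W) {k : ℕ}
    (hk : 2 * finrank F W + k ≤ finrank F V) :
    finrank F (perp Q W ⊓ perp Q (perp Q W) : Submodule F V) + k ≤ finrank F (perp Q W) := by
  rw [perp_perp hQ, inf_eq_right.2 h.le_perp]
  have := finrank_add_perp hQ W
  omega

/-- dimension of an intersection with an orthogonal complement -/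
theorem finrank_inf_perp [FiniteDimensional F V] (hQ : Nondeg Q) (A W : Submodule F V) :
    finrank F A ≤ finrank F (A ⊓ perp Q W : Submodule F V) + finrank F W := by
  have h1 := Submodule.finrank_sup_add_finrank_inf_eq A (perp Q W)
  have h2 := finrank_add_perp hQ W
  have h3 := Submodule.finrank_le (A ⊔ perp Q W)
  omega

theorem perp_sup (A B : Submodule F V) : perp Q (A ⊔ B) = perp Q A ⊓ perp Q B := by
  apply le_antisymm
  · exact le_inf (perp_anti le_sup_left) (perp_anti le_sup_right)
  · rintro x ⟨hx, hx'⟩ y hy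
    obtain ⟨a, ha, b, hb, rfl⟩ := Submodule.mem_sup.1 hy
    rw [polar_add_left, hx a ha, hx' b hb, add_zero]

/-- the side condition for avoiding `K` (when `W` also avoids `D`) -/
def AvCond (Q : QuadraticForm F V) (m : ℕ) (K D : Submodule F V) : Prop :=
  (m ≤ finrank F (perp Q K) ∧ (perp Q K ≤ K ∨ perp Q K ≤ D)) ∨ 2 * m ≤ finrank F (perp Q K)

theorem not_le_of_avCond [FiniteDimensional F V] (hQ : Nondeg Q) {m : ℕ} {K D W : Submodule F V}
    (h : AvCond Q m K D) (hi : finrank F W < m) (hWK : Disjoint W K)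
    (hWD : Disjoint W D) : ¬ perp Q W ≤ W ⊔ K := by
  intro hle
  have h1 := perp_anti (Q := Q) hle
  rw [perp_perp hQ, perp_sup] at h1
  have h2 := finrank_inf_perp hQ (perp Q K) W
  rw [inf_comm] at h2
  rcases h with ⟨h3, h4⟩ | h3
  · have h5 : perp Q W ⊓ perp Q K = ⊥ := by
      rw [Submodule.eq_bot_iff]
      intro x hx
      have hxW := h1 hx
      rcases h4 with h4 | h4
      · exact Submodule.disjoint_def.1 hWK x hxW (h4 hx.2)
      · exact Submodule.disjoint_def.1 hWD x hxW (h4 hx.2)
    rw [h5, finrank_bot] at h2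
    omega
  · have h6 := Submodule.finrank_mono h1
    omega

/-- **Avoiding two subspaces.** -/
theorem exists_TS_avoid [Finite F] [FiniteDimensional F V] (hQ : Nondeg Q) {K D : Submodule F V}
    {m : ℕ} (hN : 2 * m + 3 ≤ finrank F V) (hK : AvCond Q m K D) (hD : AvCond Q m D K) :
    ∀ i ≤ m, ∃ W : Submodule F V, TS Q W ∧ finrank F W = i ∧ Disjoint W K ∧ Disjoint W D := by
  intro i
  induction i with
  | zero => exact fun _ => ⟨⊥, TS.bot, finrank_bot F V, disjoint_bot_left, disjoint_bot_left⟩
  | succ i ih =>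
    intro hi
    obtain ⟨W, hW, hd, hWK, hWD⟩ := ih (by omega)
    have h1 := not_le_of_avCond hQ hK (by omega) hWK hWD
    have h2 := not_le_of_avCond hQ hD (by omega) hWD hWK
    obtain ⟨w, hw, hQw, hA, hB⟩ := exists_sing_avoid (rank_perp_TS hQ hW (k := 5) (by omega)) h1 h2
    have key : ∀ L : Submodule F V, Disjoint W L → w ∉ W ⊔ L →
        Disjoint (W ⊔ Submodule.span F {w}) L := by
      intro L hWL hwL
      rw [Submodule.disjoint_def]
      intro x hx hxL
      obtain ⟨y, hy, a, rfl⟩ := mem_sup_span.1 hx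
      by_cases ha : a = 0
      · rw [ha, zero_smul, add_zero] at hxL ⊢
        exact Submodule.disjoint_def.1 hWL y hy hxL
      · exfalso
        apply hwL
        have : w = a⁻¹ • ((-y) + (y + a • w)) := by
          rw [neg_add_cancel_left, smul_smul, inv_mul_cancel₀ ha, one_smul]
        rw [this]
        exact Submodule.smul_mem _ _ (Submodule.add_mem_sup (W.neg_mem hy) hxL)
    exact ⟨_, hW.sup_span hw hQw, by
      rw [finrank_sup_span (fun h => hA (Submodule.mem_sup_left h)), hd],
      key K hWK hA, key D hWD hB⟩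

end Cfsg.Agent.H958.Ore
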