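import Mathlib
import Cfsg.Agent.H958.Ore.Avoid
import Cfsg.Agent.H140.OreO.Frame

/-!
# Dual totally singular families orthogonal to a given subspace
-/

set_option autoImplicit false

namespace Cfsg.Agent.H958.Ore

open Module QuadraticMap Cfsg.Agent.LieClassical.OrthCore Cfsg.Agent.LieClassical.OrthTrans
  Cfsg.Agent.H955

universe u v

variable {F : Type u} [Field F]

/-- the correction step: `y` singular in `L`, not orthogonal to `x₀ + L` -/
theorem exists_sing_shift {V : Type v} [AddCommGroup V] [Module F V] {Q : QuadraticForm F V}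
    {L : Submodule F V} {x₀ y : V} (hy : y ∈ L) (hQy : Q y = 0)
    (h : polar Q y x₀ ≠ 0 ∨ ∃ z ∈ L, polar Q y z ≠ 0) :
    ∃ x, x - x₀ ∈ L ∧ Q x = 0 ∧ polar Q y x ≠ 0 := by
  obtain ⟨z, hz, hne⟩ : ∃ z ∈ L, polar Q y (x₀ + z) ≠ 0 := by
    by_cases h0 : polar Q y x₀ = 0
    · rcases h with h | ⟨z, hz, hz0⟩
      · exact absurd h0 h
      · exact ⟨z, hz, by rw [polar_add_right, h0, zero_add]; exact hz0⟩
    · exact ⟨0, L.zero_mem, by rw [add_zero]; exact h0⟩
  set x₁ := x₀ + z with hx₁
  set b := -(Q x₁) / polar Q y x₁ with hb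
  refine ⟨x₁ + b • y, ?_, ?_, ?_⟩
  · have : x₁ + b • y - x₀ = z + b • y := by rw [hx₁]; abel
    rw [this]
    exact L.add_mem hz (L.smul_mem _ hy)
  · rw [Q_add, QuadraticMap.map_smul, hQy, polar_smul_right, polar_comm Q x₁ y, smul_zero, add_zero,
      smul_eq_mul, hb, div_mul_cancel₀ _ hne]
    simp
  · rw [polar_add_right, polar_smul_right, polar_self_of_sing hQy, smul_zero, add_zero]
    exact hne

/-- The first dual vector. -/
theorem exists_first [Finite F] {V : Type v} [AddCommGroup V] [Module F V] [FiniteDimensional F V]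
    {Q : QuadraticForm F V} (hQ : Nondeg Q) {W₁ D : Submodule F V} {w : V} (hw : Q w = 0)
    (hW₁ : w ∉ W₁)
    (hdis : Disjoint (W₁ ⊔ Submodule.span F {w}) D)
    (hN : 2 * (finrank F W₁ + 1 + finrank F D) + 2 ≤ finrank F V) :
    ∃ x, Hyp Q w x ∧ x ∈ perp Q W₁ ∧ x ∈ perp Q D ∧ x ∉ (W₁ ⊔ Submodule.span F {w}) ⊔ D := by
  -- the linear conditions
  have hwT : w ∉ W₁ ⊔ D := by
    intro h
    obtain ⟨a, ha, d, hd, e⟩ := Submodule.mem_sup.1 h
    have h1 : d ∈ W₁ ⊔ Submodule.span F {w} := by
      rw [mem_sup_span]
      exact ⟨-a, W₁.neg_mem ha, 1, by rw [one_smul, ← e]; abel⟩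
    have h2 := Submodule.disjoint_def.1 hdis d h1 hd
    rw [h2, add_zero] at e
    exact hW₁ (e ▸ ha)
  obtain ⟨x₀, hx₀, hx₀w⟩ : ∃ x₀ ∈ perp Q (W₁ ⊔ D), polar Q w x₀ = 1 := by
    have h1 : w ∉ perp Q (perp Q (W₁ ⊔ D)) := by rw [perp_perp hQ]; exact hwT
    rw [mem_perp'] at h1
    push Not at h1
    obtain ⟨x, hx, hne⟩ := h1
    exact ⟨(polar Q w x)⁻¹ • x, Submodule.smul_mem _ _ hx, by
      rw [polar_smul_right, smul_eq_mul, inv_mul_cancel₀ hne]⟩
  set T : Submodule F V := (W₁ ⊔ Submodule.span F {w}) ⊔ D with hT
  have hTd : finrank F T ≤ finrank F W₁ + 1 + finrank F D := by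
    refine (Submodule.finrank_add_le_finrank_add_finrank _ _).trans ?_
    have := finrank_sup_span hW₁
    omega
  have hwT' : w ∈ T := Submodule.mem_sup_left (Submodule.mem_sup_right
    (Submodule.mem_span_singleton_self w))
  -- the singular vector `y`
  obtain ⟨y, hy, hQy, hyne⟩ : ∃ y ∈ perp Q T, Q y = 0 ∧
      (polar Q y x₀ ≠ 0 ∨ ∃ z ∈ perp Q T, polar Q y z ≠ 0) := by
    by_cases hwL : w ∈ perp Q T
    · exact ⟨w, hwL, hw, Or.inl (by rw [hx₀w]; exact one_ne_zero)⟩
    · have h1 := finrank_add_perp hQ T
      have h2 : finrank F (perp Q T ⊓ perp Q (perp Q T) : Submodule F V) + 1 ≤ finrank F T := by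
        rw [perp_perp hQ]
        have : finrank F (perp Q T ⊓ T : Submodule F V) < finrank F T := by
          apply Submodule.finrank_lt_finrank_of_lt
          refine lt_of_le_of_ne inf_le_right ?_
          intro h
          exact hwL (inf_eq_right.1 h hwT')
        omega
      obtain ⟨y, hy, hQy, hne⟩ := exists_sing_not_mem (Q := Q) (X := perp Q T)
        (A := perp Q (perp Q T)) (by omega)
      rw [mem_perp'] at hne
      push Not at hne
      exact ⟨y, hy, hQy, Or.inr hne⟩
  obtain ⟨x, hx, hQx, hyx⟩ := exists_sing_shift hy hQy hyne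
  have hTx : ∀ t ∈ T, polar Q t x = polar Q t x₀ := by
    intro t ht
    have := hx t ht
    rw [polar_sub_right, sub_eq_zero] at this
    exact this
  refine ⟨x, ⟨hw, hQx, ?_⟩, ?_, ?_, ?_⟩
  · rw [hTx w hwT', hx₀w]
  · intro a ha
    rw [hTx a (Submodule.mem_sup_left (Submodule.mem_sup_left ha))]
    exact hx₀ a (Submodule.mem_sup_left ha)
  · intro d hd
    rw [hTx d (Submodule.mem_sup_right hd)]
    exact hx₀ d (Submodule.mem_sup_right hd)
  · intro hxT
    apply hyx
    rw [polar_comm]
    exact hy x hxT

/-- **Dual families orthogonal to `D`.** -/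
theorem exists_dual [Finite F] (b a : ℕ) : ∀ {V : Type v} [AddCommGroup V] [Module F V]
    [FiniteDimensional F V] {Q : QuadraticForm F V} (_ : Nondeg Q) (w : Fin a → V)
    (_ : ∀ i, Q (w i) = 0) (_ : ∀ i j, polar Q (w i) (w j) = 0) (_ : LinearIndependent F w)
    (D : Submodule F V) (_ : finrank F D ≤ b)
    (_ : Disjoint (Submodule.span F (Set.range w)) D) (_ : 2 * a + 2 * b + 2 ≤ finrank F V),
    ∃ w' : Fin a → V, Cfsg.Agent.H140.OreO.Frame Q w w' ∧ ∀ i, w' i ∈ perp Q D := by
  induction a with
  | zero =>
    intro V _ _ _ Q _ w _ _ _ D _ _ _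
    exact ⟨w, ⟨fun i => i.elim0, fun i => i.elim0, fun i => i.elim0, fun i => i.elim0,
      fun i => i.elim0⟩, fun i => i.elim0⟩
  | succ a ih =>
    intro V _ _ _ Q hQ w hwQ hww hLI D hD hdis hN
    set W₁ : Submodule F V := Submodule.span F (Set.range fun i : Fin a => w i.succ) with hW₁
    have hspan : Submodule.span F (Set.range w) = W₁ ⊔ Submodule.span F {w 0} := by
      rw [hW₁, ← Submodule.span_union, Set.union_comm]
      congr 1
      ext x
      simp only [Set.mem_range, Set.mem_union, Set.mem_singleton_iff]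
      constructor
      · rintro ⟨i, rfl⟩
        refine Fin.cases (Or.inl rfl) (fun j => Or.inr ⟨j, rfl⟩) i
      · rintro (rfl | ⟨j, rfl⟩)
        · exact ⟨0, rfl⟩
        · exact ⟨j.succ, rfl⟩
    rw [hspan] at hdis
    have hLI' : LinearIndependent F (fun i : Fin a => w i.succ) :=
      hLI.comp _ (Fin.succ_injective a)
    have hd1 : finrank F W₁ = a := by
      rw [hW₁, finrank_span_eq_card hLI', Fintype.card_fin]
    have hperp : ∀ x ∈ W₁, ∀ i, polar Q x (w i) = 0 := by
      intro x hx i
      refine Submodule.span_induction (p := fun x _ => polar Q x (w i) = 0) ?_ ?_ ?_ ?_ hx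
      · rintro _ ⟨j, rfl⟩; exact hww _ _
      · exact polar_zero_left Q _
      · intro x y _ _ h1 h2; rw [polar_add_left, h1, h2, add_zero]
      · intro c x _ h1; rw [polar_smul_left, h1, smul_zero]
    have h0W : w 0 ∉ W₁ := by
      have := hLI.notMem_span_image (s := Set.range (Fin.succ : Fin a → Fin (a + 1))) (x := 0)
        (by rintro ⟨j, hj⟩; exact Fin.succ_ne_zero j hj)
      rwa [← Set.range_comp] at this
    obtain ⟨x, hh, hxW, hxD, hxT⟩ := exists_first hQ (hwQ 0)
      h0W hdis (by omega)
    -- the complement of the hyperbolic pair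
    set P : Submodule F V := Submodule.span F {w 0, x} with hP
    have hwP : w 0 ∈ P := Submodule.subset_span (by simp)
    have hxP : x ∈ P := Submodule.subset_span (by simp)
    have hmemP : ∀ z, z ∈ perp Q P ↔ polar Q (w 0) z = 0 ∧ polar Q x z = 0 := by
      intro z
      refine ⟨fun h => ⟨h _ hwP, h _ hxP⟩, fun h y hy => ?_⟩
      refine Submodule.span_induction (p := fun y _ => polar Q y z = 0) ?_ ?_ ?_ ?_ hy
      · intro y hy
        rcases hy with rfl | hy
        · exact h.1
        · rw [Set.mem_singleton_iff.1 hy]; exact h.2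
      · exact polar_zero_left Q z
      · intro a b _ _ ha hb
        rw [polar_add_left, ha, hb, add_zero]
      · intro c a _ ha
        rw [polar_smul_left, ha, smul_zero]
    have hPnd : Nondeg (res Q P) := by
      rw [nondeg_res_iff]
      intro y hy hyz
      obtain ⟨α, β, rfl⟩ := Submodule.mem_span_pair.1 hy
      have h1 := hyz _ hwP
      have h2 := hyz _ hxP
      rw [polar_add_left, polar_smul_left, polar_smul_left, hh.polar_left, hh.pair'] at h1
      rw [polar_add_left, polar_smul_left, polar_smul_left, hh.polar_right, hh.pair] at h2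
      simp only [smul_eq_mul, mul_zero, mul_one, zero_add, add_zero] at h1 h2
      rw [h1, h2]; simp
    have hPd : finrank F P = 2 := by
      have h1 : LinearIndependent F ![w 0, x] := by
        rw [LinearIndependent.pair_iff]
        intro s t hst
        have h2 : polar Q (s • w 0 + t • x) x = 0 := by rw [hst]; exact polar_zero_left Q x
        have h3 : polar Q (s • w 0 + t • x) (w 0) = 0 := by rw [hst]; exact polar_zero_left Q _
        rw [polar_add_left, polar_smul_left, polar_smul_left, hh.polar_right, hh.pair] at h2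
        rw [polar_add_left, polar_smul_left, polar_smul_left, hh.polar_left, hh.pair'] at h3
        simp only [smul_eq_mul, mul_zero, mul_one, zero_add, add_zero] at h2 h3
        exact ⟨h2, h3⟩
      have h2 := finrank_span_eq_card h1
      rw [Matrix.range_cons, Matrix.range_cons, Matrix.range_empty, Set.union_empty,
        Set.singleton_union, Fintype.card_fin] at h2
      exact h2
    have hVd := finrank_add_perp hQ P
    -- the projection
    have hIC := isCompl_perp (Q := Q) hPnd
    let pr : V →ₗ[F] perp Q P := (perp Q P).projectionOnto P hIC.symm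
    have hpr : ∀ z, ∃ α β : F, (pr z : V) = z - α • w 0 - β • x ∧ β = polar Q (w 0) z ∧
        α = polar Q x z := by
      intro z
      refine ⟨polar Q x z, polar Q (w 0) z, ?_, rfl, rfl⟩
      have h1 : z - polar Q x z • w 0 - polar Q (w 0) z • x ∈ perp Q P := by
        rw [hmemP]
        constructor
        · rw [polar_sub_right, polar_sub_right, polar_smul_right, polar_smul_right, hh.polar_left,
            hh.pair]
          simp
        · rw [polar_sub_right, polar_sub_right, polar_smul_right, polar_smul_right, hh.polar_right,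
            hh.pair']
          simp
      have h2 : pr z = pr (z - polar Q x z • w 0 - polar Q (w 0) z • x) := by
        have e : z = (z - polar Q x z • w 0 - polar Q (w 0) z • x) +
          (polar Q x z • w 0 + polar Q (w 0) z • x) := by abel
        conv_lhs => rw [e, map_add]
        have h3 : pr (polar Q x z • w 0 + polar Q (w 0) z • x) = 0 := by
          rw [← LinearMap.mem_ker, Submodule.ker_projectionOnto]
          exact P.add_mem (P.smul_mem _ hwP) (P.smul_mem _ hxP)
        rw [h3, add_zero]
      rw [h2]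
      have h3 : pr ((⟨_, h1⟩ : perp Q P) : V) = ⟨_, h1⟩ :=
        Submodule.projectionOnto_apply_left hIC.symm _
      exact congrArg Subtype.val h3
    let w₁ : Fin a → perp Q P := fun i => ⟨w i.succ, by
      rw [hmemP]
      exact ⟨hww _ _, by rw [polar_comm]; exact hxW _ (Submodule.subset_span ⟨i, rfl⟩)⟩⟩
    obtain ⟨w₁', hf, hD'⟩ := ih (nondeg_perp hQ hPnd) w₁ (fun i => hwQ i.succ)
      (fun i j => hww i.succ j.succ)
      (by
        have h1 : LinearIndependent F (fun i => (perp Q P).subtype (w₁ i)) := hLI'
        exact LinearIndependent.of_comp _ h1)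
      (D.map pr) ((Submodule.finrank_map_le _ _).trans hD)
      (by
        rw [Submodule.disjoint_def]
        rintro y hy ⟨d, hd, hdy⟩
        have hyW : (y : V) ∈ W₁ := by
          have h1 : (y : V) ∈ (Submodule.span F (Set.range w₁)).map (perp Q P).subtype :=
            ⟨y, hy, rfl⟩
          rw [Submodule.map_span] at h1
          refine (Submodule.span_mono ?_) h1
          rintro _ ⟨_, ⟨i, rfl⟩, rfl⟩
          exact ⟨i, rfl⟩
        obtain ⟨α, β, hz, hβ, hα⟩ := hpr d
        have hα0 : α = 0 := by rw [hα, polar_comm]; exact hxD d hd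
        rw [hdy, hα0, zero_smul, sub_zero] at hz
        have hβ0 : β = 0 := by
          by_contra hne
          apply hxT
          have e : x = β⁻¹ • (-(y : V) + d) := by
            rw [hz]
            have : -(d - β • x) + d = β • x := by abel
            rw [this, smul_smul, inv_mul_cancel₀ hne, one_smul]
          rw [e]
          exact Submodule.smul_mem _ _ (Submodule.add_mem_sup
            (Submodule.mem_sup_left (W₁.neg_mem hyW)) hd)
        rw [hβ0, zero_smul, sub_zero] at hz
        apply Subtype.ext
        refine Submodule.disjoint_def.1 hdis (y : V) (Submodule.mem_sup_left hyW) ?_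
        rw [hz]; exact hd)
      (by omega)
    have hc : ∀ i, polar Q (w 0) (w₁' i : V) = 0 ∧ polar Q x (w₁' i : V) = 0 := fun i =>
      (hmemP _).1 (w₁' i).2
    refine ⟨Fin.cons x (fun i => (w₁' i : V)), ⟨hwQ, ?_, hww, ?_, ?_⟩, ?_⟩
    · intro i
      refine Fin.cases ?_ (fun j => ?_) i
      · exact hh.right
      · exact hf.sr j
    · intro i j
      refine Fin.cases ?_ (fun i => ?_) i
      · refine Fin.cases ?_ (fun j => ?_) j
        · exact hh.polar_right
        · exact (hc j).2
      · refine Fin.cases ?_ (fun j => ?_) j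
        · simp only [Fin.cons_succ, Fin.cons_zero]
          rw [polar_comm]; exact (hc i).2
        · exact hf.rr i j
    · intro i j
      refine Fin.cases ?_ (fun i => ?_) i
      · refine Fin.cases ?_ (fun j => ?_) j
        · simp only [Fin.cons_zero, if_true]; exact hh.pair
        · simp only [Fin.cons_succ]
          rw [if_neg (Fin.succ_ne_zero j).symm]; exact (hc j).1
      · refine Fin.cases ?_ (fun j => ?_) j
        · simp only [Fin.cons_zero]
          rw [if_neg (Fin.succ_ne_zero i)]
          exact hxW _ (Submodule.subset_span ⟨i, rfl⟩)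
        · simp only [Fin.cons_succ, Fin.succ_inj]
          exact hf.lr i j
    · intro i
      refine Fin.cases ?_ (fun j => ?_) i
      · exact hxD
      · simp only [Fin.cons_succ]
        intro d hd
        have h1 := hD' j (pr d) ⟨d, hd, rfl⟩
        have h2 : polar Q (pr d : V) (w₁' j : V) = 0 := h1
        obtain ⟨α, β, hz, -, -⟩ := hpr d
        rw [hz, polar_sub_left, polar_sub_left, polar_smul_left, polar_smul_left, (hc j).1,
          (hc j).2] at h2
        simpa using h2

end Cfsg.Agent.H958.Ore
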