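import Mathlib
import Cfsg.Agent.H958.Ore.Avoid

/-!
# Totally singular `W` with `W ∩ (g - 1) W = 0`
-/

set_option autoImplicit false

namespace Cfsg.Agent.H958.Ore

open Module QuadraticMap Cfsg.Agent.LieClassical.OrthCore Cfsg.Agent.LieClassical.OrthTrans
  Cfsg.Agent.H955

variable {F V : Type*} [Field F] [AddCommGroup V] [Module F V] {Q : QuadraticForm F V}

/-- `W ∩ (g - 1) W = 0` -/
def NoRet (g : V ≃ₗ[F] V) (W : Submodule F V) : Prop := ∀ x ∈ W, g x - x ∈ W → g x = x

theorem stuck_pair {g : V ≃ₗ[F] V} {X E : Submodule F V}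
    (hst : ∀ w ∈ X, Q w = 0 → w ∉ E → ∃ d : F, g w - d • w ∈ E) {u v : V} {c : F} (huX : u ∈ X)
    (hvX : v ∈ X) (hu : Q u = 0) (hv : Q v = 0) (huv : polar Q u v = 0) (huE : u ∉ E)
    (hvE : v ∉ E ⊔ Submodule.span F {u}) (hc : g u - c • u ∈ E) : g v - c • v ∈ E := by
  have hvE0 : v ∉ E := fun h => hvE (Submodule.mem_sup_left h)
  obtain ⟨d, hd⟩ := hst v hvX hv hvE0
  have h1 : Q (u + v) = 0 := by rw [Q_add, hu, hv, huv]; simp
  have h2 : u + v ∉ E := by
    intro h
    apply hvE
    have : v = (u + v) + (-1 : F) • u := by rw [neg_smul, one_smul]; abel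
    rw [this]
    exact mem_sup_span.2 ⟨_, h, -1, rfl⟩
  obtain ⟨e, he⟩ := hst (u + v) (X.add_mem huX hvX) h1 h2
  have h3 : (c - e) • u + (d - e) • v ∈ E := by
    have := E.sub_mem he (E.add_mem hc hd)
    rw [map_add] at this
    have e1 : (c - e) • u + (d - e) • v = g u + g v - e • (u + v) - (g u - c • u + (g v - d • v)) := by
      module
    rw [e1]; exact this
  have h4 : d = e := by
    by_contra hne
    apply hvE
    have hne' : d - e ≠ 0 := sub_ne_zero.2 hne
    rw [mem_sup_span]
    refine ⟨(d - e)⁻¹ • ((c - e) • u + (d - e) • v), E.smul_mem _ h3, -((d - e)⁻¹ * (c - e)), ?_⟩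
    rw [smul_add, smul_smul, smul_smul, inv_mul_cancel₀ hne']
    module
  have h5 : c = e := by
    by_contra hne
    apply huE
    rw [h4, sub_self, zero_smul, add_zero] at h3
    exact (E.smul_mem_iff (sub_ne_zero.2 hne)).1 h3
  rw [h5, ← h4]; exact hd

/-- the stuck analysis -/
theorem stuck [Finite F] [FiniteDimensional F V] (hQ : Nondeg Q) {g : V ≃ₗ[F] V} {W E : Submodule F V}
    (hW : TS Q W) {i : ℕ} (hi : finrank F W = i) (hE : finrank F E ≤ 2 * i)
    (hN : 3 * i + 7 ≤ finrank F V)
    (hst : ∀ w ∈ perp Q W, Q w = 0 → w ∉ E → ∃ d : F, g w - d • w ∈ E) :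
    ∃ c : F, ∀ x ∈ perp Q W, g x - c • x ∈ E := by
  have hX := finrank_add_perp hQ W
  have hXE : finrank F (perp Q W ⊓ E : Submodule F V) ≤ finrank F E :=
    Submodule.finrank_mono inf_le_right
  obtain ⟨u, huX, hu, huE⟩ := exists_sing_not_mem (Q := Q) (X := perp Q W) (A := E) (by omega)
  obtain ⟨c, hc⟩ := hst u huX hu huE
  refine ⟨c, ?_⟩
  have hall : ∀ v ∈ perp Q W, Q v = 0 → v ∉ E → g v - c • v ∈ E := by
    intro v hvX hv hvE
    -- a common neighbour `z`
    set S : Submodule F V := Submodule.span F {u} ⊔ Submodule.span F {v} with hS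
    have hSd : finrank F S ≤ 2 := by
      refine (Submodule.finrank_add_le_finrank_add_finrank _ _).trans ?_
      have h1 := finrank_span_le_card (R := F) ({u} : Set V)
      have h2 := finrank_span_le_card (R := F) ({v} : Set V)
      simp only [Set.toFinset_singleton, Finset.card_singleton] at h1 h2
      omega
    have h1 := finrank_inf_perp hQ (perp Q W) S
    have h2 : finrank F ((perp Q W ⊓ perp Q S) ⊓ (E ⊔ S) : Submodule F V) ≤ finrank F E + finrank F S :=
      (Submodule.finrank_mono inf_le_right).trans (Submodule.finrank_add_le_finrank_add_finrank _ _)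
    obtain ⟨z, ⟨hzX, hzS⟩, hz, hzE⟩ := exists_sing_not_mem (Q := Q) (X := perp Q W ⊓ perp Q S)
      (A := E ⊔ S) (by omega)
    have huS : u ∈ S := Submodule.mem_sup_left (Submodule.mem_span_singleton_self u)
    have hvS : v ∈ S := Submodule.mem_sup_right (Submodule.mem_span_singleton_self v)
    have hzu : z ∉ E ⊔ Submodule.span F {u} := fun h => hzE (by
      rw [hS, ← sup_assoc]; exact Submodule.mem_sup_left h)
    have hcz := stuck_pair hst huX hzX hu hz (hzS u huS) huE hzu hc
    have hzE0 : z ∉ E := fun h => hzE (Submodule.mem_sup_left h)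
    refine stuck_pair hst hzX hvX hz hv (by rw [polar_comm]; exact hzS v hvS) hzE0 ?_ hcz
    intro h
    obtain ⟨y, hy, a, hya⟩ := mem_sup_span.1 h
    have ha : a ≠ 0 := by
      rintro rfl
      rw [zero_smul, add_zero] at hya
      exact hvE (hya ▸ hy)
    apply hzE
    have : z = (-(a⁻¹ • y)) + a⁻¹ • v := by
      rw [hya, smul_add, smul_smul, inv_mul_cancel₀ ha, one_smul]; abel
    rw [this]
    exact Submodule.add_mem_sup (E.neg_mem (E.smul_mem _ hy)) (S.smul_mem _ hvS)
  -- the covering lemma
  by_contra hcon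
  have hA : ¬ perp Q W ≤ E := by
    intro h
    have := Submodule.finrank_mono h
    omega
  have hB : ¬ perp Q W ≤ E.comap ((g : V →ₗ[F] V) - c • LinearMap.id) := by
    intro h
    exact hcon fun x hx => h hx
  obtain ⟨w, hw, hQw, hwA, hwB⟩ := exists_sing_avoid (rank_perp_TS hQ hW (k := 5) (by omega)) hA hB
  exact hwB (hall w hw hQw hwA)

/-- rank of `g - c` when `(g - c) W^⊥ ≤ E` -/
theorem finrank_range_le [FiniteDimensional F V] (hQ : Nondeg Q) (f : V →ₗ[F] V) {W E : Submodule F V}
    (h : ∀ x ∈ perp Q W, f x ∈ E) : finrank F (LinearMap.range f) ≤ finrank F W + finrank F E := by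
  obtain ⟨C, hC⟩ := Submodule.exists_isCompl (perp Q W)
  have h1 : LinearMap.range f ≤ E ⊔ C.map f := by
    rintro _ ⟨x, rfl⟩
    obtain ⟨a, ha, b, hb, rfl⟩ := Submodule.mem_sup.1 (hC.sup_eq_top ▸ Submodule.mem_top : x ∈ perp Q W ⊔ C)
    rw [map_add]
    exact Submodule.add_mem_sup (h a ha) (Submodule.mem_map_of_mem hb)
  have h2 := Submodule.finrank_mono h1
  have h3 := Submodule.finrank_add_le_finrank_add_finrank E (C.map f)
  have h4 := Submodule.finrank_map_le f C
  have h5 := Submodule.finrank_add_eq_of_isCompl hC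
  have h6 := finrank_add_perp hQ W
  omega

/-- one greedy step -/
theorem greedy_step [Finite F] [FiniteDimensional F V] (hQ : Nondeg Q) {g : V ≃ₗ[F] V}
    {W : Submodule F V} (hW : TS Q W) {i : ℕ} (hi : finrank F W = i) (hN : 3 * i + 7 ≤ finrank F V)
    (hg : NoRet g W) (hr : ∀ c : F, 3 * i < finrank F (LinearMap.range ((g : V →ₗ[F] V) - c • LinearMap.id))) :
    ∃ W' : Submodule F V, TS Q W' ∧ finrank F W' = i + 1 ∧ NoRet g W' := by
  set E : Submodule F V := W ⊔ W.map (g : V →ₗ[F] V) with hE
  have hEd : finrank F E ≤ 2 * i := by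
    refine (Submodule.finrank_add_le_finrank_add_finrank _ _).trans ?_
    have := Submodule.finrank_map_le (g : V →ₗ[F] V) W
    omega
  have hWE : W ≤ E := le_sup_left
  have hgE : ∀ x ∈ W, g x ∈ E := fun x hx => Submodule.mem_sup_right (Submodule.mem_map_of_mem hx)
  obtain ⟨w, hw, hQw, hwE, hwd⟩ : ∃ w ∈ perp Q W, Q w = 0 ∧ w ∉ E ∧ ∀ d : F, g w - d • w ∉ E := by
    by_contra hcon
    push Not at hcon
    obtain ⟨c, hc⟩ := stuck hQ hW hi hEd hN hcon
    have h1 := finrank_range_le hQ ((g : V →ₗ[F] V) - c • LinearMap.id) (W := W) (E := E)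
      (fun x hx => hc x hx)
    have h2 := hr c
    omega
  refine ⟨W ⊔ Submodule.span F {w}, hW.sup_span hw hQw, by
    rw [finrank_sup_span (fun h => hwE (hWE h)), hi], ?_⟩
  intro x hx hgx
  obtain ⟨y, hy, b, rfl⟩ := mem_sup_span.1 hx
  obtain ⟨y', hy', a, hya⟩ := mem_sup_span.1 hgx
  have hb : b = 0 := by
    by_contra hb
    apply hwd (b⁻¹ * (a + b))
    have e1 : g w - (b⁻¹ * (a + b)) • w = b⁻¹ • (y' + y - g y) := by
      have e2 : b • g w = y' + a • w + y + b • w - g y := by
        rw [map_add, map_smul] at hya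
        rw [← hya]; abel
      have e3 : g w = b⁻¹ • (b • g w) := by rw [smul_smul, inv_mul_cancel₀ hb, one_smul]
      rw [e3, e2]
      module
    rw [e1]
    exact E.smul_mem _ (E.sub_mem (E.add_mem (hWE hy') (hWE hy)) (hgE y hy))
  subst hb
  rw [zero_smul, add_zero] at hya ⊢
  have ha : a = 0 := by
    by_contra ha
    apply hwE
    have e1 : w = a⁻¹ • (g y - y - y') := by
      rw [hya, add_sub_cancel_left, smul_smul, inv_mul_cancel₀ ha, one_smul]
    rw [e1]
    exact E.smul_mem _ (E.sub_mem (E.sub_mem (hgE y hy) (hWE hy)) (hWE hy'))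
  subst ha
  rw [zero_smul, add_zero] at hya
  exact hg y hy (hya ▸ hy')

theorem perp_range [FiniteDimensional F V] {g : V ≃ₗ[F] V} (hg : g ∈ O Q) (hQ : Nondeg Q) {c : F}
    (hc : c ≠ 0) : perp Q (LinearMap.range ((g : V →ₗ[F] V) - c • LinearMap.id)) =
      LinearMap.ker ((g : V →ₗ[F] V) - c⁻¹ • LinearMap.id) := by
  ext x
  rw [mem_perp, LinearMap.mem_ker]
  have key : ∀ y, polar Q (g y - c • y) (g x) = - c * polar Q y (g x - c⁻¹ • x) := by
    intro y
    rw [polar_sub_left, polar_map hg, polar_smul_left, polar_sub_right, polar_smul_right]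
    simp only [smul_eq_mul]
    field_simp
    ring
  constructor
  · intro h
    have h0 : ∀ y, polar Q y (g x - c⁻¹ • x) = 0 := by
      intro y
      have h1 := key (y)
      have h2 : polar Q (g y - c • y) x = 0 := h _ ⟨y, rfl⟩
      -- `polar (g y - c y) x = polar y (g⁻¹ x) - c polar y x`
      have h3 : ∀ y, polar Q (g y) x = c * polar Q y x := by
        intro y
        have := h _ ⟨y, rfl⟩
        have h4 : polar Q (g y - c • y) x = 0 := this
        rw [polar_sub_left, polar_smul_left, smul_eq_mul, sub_eq_zero] at h4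
        exact h4
      obtain ⟨y', rfl⟩ := g.surjective y
      rw [polar_sub_right, polar_map hg, polar_smul_right, h3, smul_eq_mul, ← mul_assoc,
        inv_mul_cancel₀ hc, one_mul, sub_self]
    have := hQ (g x - c⁻¹ • x) (fun y => by rw [polar_comm]; exact h0 y)
    exact this
  · intro h w hw
    obtain ⟨y, rfl⟩ := hw
    have h1 : g x = c⁻¹ • x := sub_eq_zero.1 h
    have h2 := key y
    rw [h1, sub_self, polar_zero_right, mul_zero, polar_smul_right, smul_eq_mul] at h2
    rcases mul_eq_zero.1 h2 with h3 | h3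
    · exact absurd h3 (inv_ne_zero hc)
    · exact h3

theorem perp_ker [FiniteDimensional F V] {g : V ≃ₗ[F] V} (hg : g ∈ O Q) (hQ : Nondeg Q) {c : F}
    (hc : c ≠ 0) : perp Q (LinearMap.ker ((g : V →ₗ[F] V) - c • LinearMap.id)) =
      LinearMap.range ((g : V →ₗ[F] V) - c⁻¹ • LinearMap.id) := by
  have h := perp_range hg hQ (inv_ne_zero hc)
  rw [inv_inv] at h
  rw [← h, perp_perp hQ]

theorem TS_ker {g : V ≃ₗ[F] V} (hg : g ∈ O Q) {c : F} (hc : c * c ≠ 1) :
    TS Q (LinearMap.ker ((g : V →ₗ[F] V) - c • LinearMap.id)) := by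
  intro x hx
  have h1 : g x = c • x := sub_eq_zero.1 (LinearMap.mem_ker.1 hx)
  have h2 : Q (g x) = Q x := hg x
  rw [h1, QuadraticMap.map_smul, smul_eq_mul] at h2
  have h3 : (c * c - 1) * Q x = 0 := by linear_combination h2
  rcases mul_eq_zero.1 h3 with h4 | h4
  · exact absurd (sub_eq_zero.1 h4) hc
  · exact h4

/-- enlarging a subspace -/
theorem exists_ge_finrank [FiniteDimensional F V] (D : Submodule F V) {m : ℕ} (h1 : finrank F D ≤ m)
    (h2 : m ≤ finrank F V) : ∃ D' ≥ D, finrank F D' = m := by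
  induction m, h1 using Nat.le_induction with
  | base => exact ⟨D, le_rfl, rfl⟩
  | succ m hm ih =>
    obtain ⟨D', hD', hd⟩ := ih (by omega)
    obtain ⟨w, hw⟩ : ∃ w, w ∉ D' := by
      by_contra hcon
      push Not at hcon
      have : D' = ⊤ := by rw [eq_top_iff]; exact fun x _ => hcon x
      rw [this, finrank_top] at hd
      omega
    exact ⟨D' ⊔ Submodule.span F {w}, hD'.trans le_sup_left, by rw [finrank_sup_span hw, hd]⟩

/-- **IB1.** -/
theorem exists_TS_noRet [Finite F] [FiniteDimensional F V] (hQ : Nondeg Q) {g : V ≃ₗ[F] V}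
    (hg : g ∈ O Q) {m : ℕ} (hN : 4 * m + 1 ≤ finrank F V) (hN3 : 3 * m + 4 ≤ finrank F V)
    (hm : (2 : F) ≠ 0 → m ≤ finrank F (LinearMap.range ((g : V →ₗ[F] V) + 1))) :
    ∃ W : Submodule F V, TS Q W ∧ finrank F W = m ∧ NoRet g W := by
  rcases Nat.eq_zero_or_pos m with rfl | hm0
  · refine ⟨⊥, TS.bot, finrank_bot F V, ?_⟩
    intro x hx _
    rw [(Submodule.mem_bot F).1 hx, map_zero]
  by_cases hr : ∀ c : F, 3 * (m - 1) < finrank F (LinearMap.range ((g : V →ₗ[F] V) - c • LinearMap.id))
  · -- greedy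
    have key : ∀ i ≤ m, ∃ W : Submodule F V, TS Q W ∧ finrank F W = i ∧ NoRet g W := by
      intro i
      induction i with
      | zero =>
        refine fun _ => ⟨⊥, TS.bot, finrank_bot F V, ?_⟩
        intro x hx _
        rw [(Submodule.mem_bot F).1 hx, map_zero]
      | succ i ih =>
        intro hi
        obtain ⟨W, hW, hd, hgW⟩ := ih (by omega)
        exact greedy_step hQ hW hd (by omega) hgW (fun c => by have := hr c; omega)
    exact key m le_rfl
  · push Not at hr
    obtain ⟨c, hc⟩ := hr
    have hc0 : c ≠ 0 := by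
      rintro rfl
      rw [zero_smul, sub_zero, LinearEquiv.range, finrank_top] at hc
      omega
    set D := LinearMap.range ((g : V →ₗ[F] V) - c • LinearMap.id) with hD
    set K := LinearMap.ker ((g : V →ₗ[F] V) - c • LinearMap.id) with hK
    have hKD : finrank F D + finrank F K = finrank F V := LinearMap.finrank_range_add_finrank_ker _
    by_cases hc1 : c = 1
    · -- only `D` matters
      obtain ⟨D', hDD', hd'⟩ := exists_ge_finrank D (m := max m (finrank F D)) (le_max_right _ _)
        (by omega)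
      have hpd := finrank_add_perp hQ D'
      have hmm : max m (finrank F D) ≤ 3 * (m - 1) ∨ max m (finrank F D) = m := by omega
      obtain ⟨W, hW, hWd, -, hWD⟩ := exists_TS_avoid hQ (K := perp Q D') (D := D') (m := m) (by omega)
        (Or.inl ⟨by rw [perp_perp hQ]; omega, Or.inr (by rw [perp_perp hQ])⟩)
        (Or.inl ⟨by omega, Or.inr le_rfl⟩) m le_rfl
      refine ⟨W, hW, hWd, ?_⟩
      intro x hx hgx
      have h1 : g x - x ∈ D := by
        refine ⟨x, ?_⟩
        rw [hc1, one_smul]; rfl
      exact sub_eq_zero.1 (Submodule.disjoint_def.1 hWD _ hgx (hDD' h1))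
    · have hfin : ∀ W : Submodule F V, Disjoint W K → Disjoint W D → NoRet g W := by
        intro W hWK hWD x hx hgx
        have h1 : g x - c • x ∈ D := ⟨x, rfl⟩
        have h2 : g x - c • x ∈ W := by
          have := W.sub_mem hgx (W.smul_mem (c - 1) hx)
          have e : g x - x - (c - 1) • x = g x - c • x := by module
          rw [e] at this; exact this
        have h3 := Submodule.disjoint_def.1 hWD _ h2 h1
        have h4 : x ∈ K := h3
        rw [Submodule.disjoint_def.1 hWK _ hx h4, map_zero]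
      suffices h : AvCond Q m K D ∧ AvCond Q m D K by
        obtain ⟨W, hW, hWd, hWK, hWD⟩ := exists_TS_avoid hQ (by omega) h.1 h.2 m le_rfl
        exact ⟨W, hW, hWd, hfin W hWK hWD⟩
      by_cases hcc : c * c = 1
      · have hcm : c = -1 := by
          rcases mul_self_eq_one_iff.1 hcc with h | h
          · exact absurd h hc1
          · exact h
        have hinv : c⁻¹ = c := inv_eq_of_mul_eq_one_left hcc
        have h2 : (2 : F) ≠ 0 := by
          intro h2
          apply hc1
          rw [hcm]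
          linear_combination -h2
        have hmD : m ≤ finrank F D := by
          have h3 := hm h2
          have e : (g : V →ₗ[F] V) - c • LinearMap.id = (g : V →ₗ[F] V) + 1 := by
            rw [hcm, neg_smul, one_smul, sub_neg_eq_add]; rfl
          rw [hD, e]; exact h3
        constructor
        · refine Or.inl ⟨?_, Or.inr ?_⟩
          · rw [hK, perp_ker hg hQ hc0, hinv]; exact hmD
          · rw [hK, perp_ker hg hQ hc0, hinv]
        · refine Or.inl ⟨?_, Or.inr ?_⟩
          · rw [hD, perp_range hg hQ hc0, hinv, ← hK]; omega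
          · rw [hD, perp_range hg hQ hc0, hinv]
      · have hKTS := TS_ker (Q := Q) hg hcc
        rw [← hK] at hKTS
        have h1 := Submodule.finrank_mono hKTS.le_perp
        have h2 := finrank_add_perp hQ K
        have hcc' : c⁻¹ * c⁻¹ ≠ 1 := by
          intro h
          apply hcc
          have := congrArg (fun t => c * c * t) h
          simp only [mul_one] at this
          rw [← this]
          field_simp
        have hK'TS := TS_ker (Q := Q) hg hcc'
        constructor
        · right
          omega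
        · left
          have h3 := finrank_add_perp hQ D
          refine ⟨by omega, Or.inl ?_⟩
          have h4 : perp Q D = LinearMap.ker ((g : V →ₗ[F] V) - c⁻¹ • LinearMap.id) := perp_range hg hQ hc0
          rw [h4]
          intro x hx
          have h5 := hK'TS.le_perp hx
          rw [← h4, perp_perp hQ] at h5
          exact h5

end Cfsg.Agent.H958.Ore
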