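import Mathlib
import Cfsg.Agent.H958.Ore.Dual
import Cfsg.Agent.H958.Ore.Generic

/-!
# Identity blocks (IB) and splitting off `-1` (R2)
-/

set_option autoImplicit false

namespace Cfsg.Agent.H958.Ore

open Module QuadraticMap Cfsg.Agent.LieClassical.OrthCore Cfsg.Agent.LieClassical.OrthTrans
  Cfsg.Agent.H955

variable {F V : Type*} [Field F] [AddCommGroup V] [Module F V] {Q : QuadraticForm F V}

/-- **(IB)** identity block of size `m`, any finite field. -/
theorem idFrame [Finite F] [FiniteDimensional F V] (hQ : Nondeg Q) {g : V ≃ₗ[F] V}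
    (hg : g ∈ O Q) {m : ℕ} (hN : 4 * m + 2 ≤ finrank F V) (hN3 : 3 * m + 4 ≤ finrank F V)
    (hm : (2 : F) ≠ 0 → m ≤ finrank F (LinearMap.range ((g : V →ₗ[F] V) + 1))) :
    Cfsg.Agent.H140.OreO.IdFrame m Q g := by
  obtain ⟨W, hW, hWd, hgW⟩ := exists_TS_noRet hQ hg (by omega) hN3 hm
  let bs := finBasisOfFinrankEq F W hWd
  let w : Fin m → V := fun i => bs i
  have hwW : ∀ i, w i ∈ W := fun i => (bs i).2
  have hLI : LinearIndependent F w :=
    bs.linearIndependent.map' W.subtype (Submodule.ker_subtype W)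
  have hspan : Submodule.span F (Set.range w) = W := by
    have h1 : Set.range w = W.subtype '' Set.range bs := by
      rw [← Set.range_comp]; rfl
    rw [h1, ← Submodule.map_span, bs.span_eq, Submodule.map_subtype_top]
  obtain ⟨w', hf, hD⟩ := exists_dual (Q := Q) m m hQ w (fun i => hW _ (hwW i))
    (fun i j => hW.polar (hwW i) (hwW j)) hLI (W.map ((g : V →ₗ[F] V) - 1))
    ((Submodule.finrank_map_le _ _).trans hWd.le)
    (by
      rw [hspan, Submodule.disjoint_def]
      rintro x hx ⟨y, hy, hyx⟩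
      have h1 : g y - y = x := hyx
      have h2 := hgW y hy (by rw [h1]; exact hx)
      rw [← h1, h2, sub_self]) (by omega)
  refine ⟨w, w', hf, ?_⟩
  ext i j
  rw [Cfsg.Agent.H140.OreO.corner_apply, Matrix.one_apply]
  have h1 : polar Q (g (w j) - w j) (w' i) = 0 := hD i _ ⟨w j, hwW j, rfl⟩
  have h2 : g (w j) = w j + (g (w j) - w j) := by abel
  rw [h2, polar_add_left, h1, add_zero, hf.lr]
  simp only [eq_comm]

/-- rank of the form on a large subspace -/
theorem rank_of_large [FiniteDimensional F V] (hQ : Nondeg Q) {X : Submodule F V} {k : ℕ}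
    (h : finrank F V + k ≤ 2 * finrank F X) :
    finrank F (X ⊓ perp Q X : Submodule F V) + k ≤ finrank F X := by
  have h1 := finrank_add_perp hQ X
  have h2 : finrank F (X ⊓ perp Q X : Submodule F V) ≤ finrank F (perp Q X) :=
    Submodule.finrank_mono inf_le_right
  omega

/-- Two orthogonal hyperbolic pairs in a large subspace. -/
theorem exists_frame_two [Finite F] [FiniteDimensional F V] {X : Submodule F V}
    (h : finrank F (X ⊓ perp Q X : Submodule F V) + 5 ≤ finrank F X) :
    ∃ w w' : Fin 2 → V, Cfsg.Agent.H140.OreO.Frame Q w w' ∧ ∀ i, w i ∈ X ∧ w' i ∈ X := by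
  obtain ⟨e, he, f, hf, hh⟩ := exists_hyp_of_rank (Q := Q) (X := X) (by omega)
  have hrk := rank_perp_hyp (k := 3) he hf hh (by omega)
  set Z : Submodule F V := X ⊓ perp Q (Submodule.span F {e, f}) with hZ
  obtain ⟨e', he', f', hf', hh'⟩ := exists_hyp_of_rank (Q := Q) (X := Z) hrk
  have h1 : ∀ z ∈ Z, polar Q e z = 0 := fun z hz => hz.2 e (Submodule.subset_span (by simp))
  have h2 : ∀ z ∈ Z, polar Q f z = 0 := fun z hz => hz.2 f (Submodule.subset_span (by simp))
  refine ⟨![e, e'], ![f, f'], ⟨?_, ?_, ?_, ?_, ?_⟩, ?_⟩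
  · intro i; fin_cases i
    · exact hh.left
    · exact hh'.left
  · intro i; fin_cases i
    · exact hh.right
    · exact hh'.right
  · intro i j; fin_cases i <;> fin_cases j
    · exact hh.polar_left
    · exact h1 e' he'
    · exact (polar_comm Q _ _).trans (h1 e' he')
    · exact hh'.polar_left
  · intro i j; fin_cases i <;> fin_cases j
    · exact hh.polar_right
    · exact h2 f' hf'
    · exact (polar_comm Q _ _).trans (h2 f' hf')
    · exact hh'.polar_right
  · intro i j; fin_cases i <;> fin_cases j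
    · exact hh.pair
    · exact h1 f' hf'
    · exact (polar_comm Q _ _).trans (h2 e' he')
    · exact hh'.pair
  · intro i; fin_cases i
    · exact ⟨he, hf⟩
    · exact ⟨he'.1, hf'.1⟩

/-- **(R2)** `g = -1` on a four-dimensional space of plus type. -/
theorem exists_neg_frame [Finite F] [FiniteDimensional F V] (hQ : Nondeg Q) {g : V ≃ₗ[F] V} {m : ℕ}
    (hr : finrank F (LinearMap.range ((g : V →ₗ[F] V) + 1)) < m) (hN : 2 * m + 3 ≤ finrank F V) :
    ∃ w w' : Fin 2 → V, Cfsg.Agent.H140.OreO.Frame Q w w' ∧ ∀ i, g (w i) = - w i ∧ g (w' i) = - w' i := by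
  have h1 := LinearMap.finrank_range_add_finrank_ker ((g : V →ₗ[F] V) + 1)
  obtain ⟨w, w', hf, hX⟩ := exists_frame_two (Q := Q) (X := LinearMap.ker ((g : V →ₗ[F] V) + 1))
    (rank_of_large hQ (by omega))
  refine ⟨w, w', hf, fun i => ⟨?_, ?_⟩⟩
  · have h2 : g (w i) + w i = 0 := (hX i).1
    exact eq_neg_of_add_eq_zero_left h2
  · have h2 : g (w' i) + w' i = 0 := (hX i).2
    exact eq_neg_of_add_eq_zero_left h2

end Cfsg.Agent.H958.Ore
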